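import Groth.Agent.SerreReg.Basic
import Groth.Agent.RegLoc.Order
import Mathlib.Algebra.Category.ModuleCat.Ext.HasExt
import Mathlib.Algebra.Category.ModuleCat.EnoughInjectives
import Mathlib.Algebra.Category.ModuleCat.InjectiveDimension
import Mathlib.CategoryTheory.Abelian.Injective.Dimension
import Mathlib.RingTheory.KrullDimension.Regular
import Mathlib.RingTheory.LocalProperties.ProjectiveDimension
import Mathlib.RingTheory.Ideal.AssociatedPrime.Finiteness
import Mathlib.RingTheory.LocalRing.ResidueField.Ideal
import Mathlib.RingTheory.Flat.Equalizer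
import Mathlib.RingTheory.Flat.FaithfullyFlat.Basic
import Mathlib.LinearAlgebra.FreeModule.Basic

/-!
Serre's characterisation of regular local rings by finite global dimension.
-/

universe u

namespace Groth.Agent.SerreReg

open CategoryTheory IsLocalRing Abelian

variable {R : Type u} [CommRing R]

theorem mk_eq_zero_iff_dvd (x : R) :
    ∀ r, algebraMap R (R ⧸ Ideal.span {x}) r = 0 ↔ ∃ s, r = x * s := fun r => by
  rw [Ideal.Quotient.algebraMap_eq, Ideal.Quotient.eq_zero_iff_mem, Ideal.mem_span_singleton]
  rfl

theorem mem_span_smul_top_iff {M : Type u} [AddCommGroup M] [Module R M] (x : R) (m : M) :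
    (Submodule.Quotient.mk m : M ⧸ Ideal.span {x} • (⊤ : Submodule R M)) = 0 ↔ ∃ y, m = x • y := by
  rw [Submodule.Quotient.mk_eq_zero, Submodule.ideal_span_singleton_smul,
    Submodule.mem_smul_pointwise_iff_exists]
  exact ⟨fun ⟨y, _, hy⟩ => ⟨y, hy.symm⟩, fun ⟨y, hy⟩ => ⟨y, Submodule.mem_top, hy.symm⟩⟩

theorem isLocalRing_quot [IsLocalRing R] {x : R} (hx : x ∈ maximalIdeal R) :
    IsLocalRing (R ⧸ Ideal.span {x}) := by
  haveI : Nontrivial (R ⧸ Ideal.span {x}) := Ideal.Quotient.nontrivial_iff.mpr
    (ne_top_of_le_ne_top (maximalIdeal.isMaximal R).ne_top ((Ideal.span_singleton_le_iff_mem _).mpr hx))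
  exact IsLocalRing.of_surjective' _ Ideal.Quotient.mk_surjective

variable [IsLocalRing R] [IsNoetherianRing R]

theorem exists_notMem_sq (h : maximalIdeal R ≠ ⊥) : ∃ x ∈ maximalIdeal R, x ∉ maximalIdeal R ^ 2 := by
  by_contra hall
  push Not at hall
  refine h (Submodule.eq_bot_of_le_smul_of_le_jacobson_bot (maximalIdeal R) _
    (IsNoetherian.noetherian _) ?_ (IsLocalRing.maximalIdeal_le_jacobson _))
  rw [smul_eq_mul, ← pow_two]
  exact hall

theorem spanFinrank_quot_succ_le {x : R} (hx : x ∈ maximalIdeal R) (hx2 : x ∉ maximalIdeal R ^ 2)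
    [IsLocalRing (R ⧸ Ideal.span {x})] :
    (maximalIdeal (R ⧸ Ideal.span {x})).spanFinrank + 1 ≤ (maximalIdeal R).spanFinrank := by
  classical
  obtain ⟨s, hcard, hspan⟩ := Submodule.FG.exists_span_finset_card_eq_spanFinrank
    (IsNoetherian.noetherian (maximalIdeal R))
  have hsm : ∀ i ∈ s, i ∈ maximalIdeal R := fun i hi => hspan ▸ Submodule.subset_span hi
  obtain ⟨c, -, hc⟩ := Submodule.mem_span_finset.mp (hspan.symm ▸ hx : x ∈ Submodule.span R (s : Set R))
  obtain ⟨i, hi, hci⟩ : ∃ i ∈ s, IsUnit (c i) := by
    by_contra hall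
    push Not at hall
    refine hx2 ?_
    rw [← hc, pow_two]
    exact Ideal.sum_mem _ fun i hi =>
      Ideal.mul_mem_mul ((IsLocalRing.mem_maximalIdeal _).mpr (hall i hi)) (hsm i hi)
  have hle : maximalIdeal (R ⧸ Ideal.span {x}) ≤
      Ideal.span ((s.erase i).image (Ideal.Quotient.mk (Ideal.span {x})) : Set _) := by
    intro v hv
    obtain ⟨r, rfl⟩ := Ideal.Quotient.mk_surjective v
    have hr : r ∈ maximalIdeal R := by
      rw [IsLocalRing.mem_maximalIdeal] at hv ⊢
      exact fun hu => hv (hu.map _)
    have hsle : Ideal.span (s : Set R) ≤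
        (Ideal.span ((s.erase i).image (Ideal.Quotient.mk (Ideal.span {x})) : Set _)).comap
          (Ideal.Quotient.mk (Ideal.span {x})) := by
      rw [Ideal.span_le]
      intro j hj
      by_cases hji : j = i
      · subst hji
        have h0 : Ideal.Quotient.mk (Ideal.span {x}) (c j * j) =
            - ∑ l ∈ s.erase j, Ideal.Quotient.mk (Ideal.span {x}) (c l * l) := by
          rw [eq_neg_iff_add_eq_zero, ← map_sum, ← map_add, Finset.add_sum_erase s (fun l => c l * l) hj,
            Ideal.Quotient.eq_zero_iff_mem, Ideal.mem_span_singleton]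
          exact ⟨1, by simpa using hc⟩
        rw [SetLike.mem_coe, Ideal.mem_comap, ← Ideal.unit_mul_mem_iff_mem _ (hci.map (Ideal.Quotient.mk (Ideal.span {x}))), ← map_mul, h0]
        refine neg_mem (Ideal.sum_mem _ fun l hl => ?_)
        rw [map_mul]
        exact Ideal.mul_mem_left _ _ (Ideal.subset_span (Finset.mem_image_of_mem _ hl))
      · exact Ideal.subset_span (Finset.mem_image_of_mem _ (Finset.mem_erase.mpr ⟨hji, hj⟩))
    exact hsle ((le_of_eq hspan.symm) hr)
  have heq : maximalIdeal (R ⧸ Ideal.span {x}) =
      Ideal.span ((s.erase i).image (Ideal.Quotient.mk (Ideal.span {x})) : Set _) := by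
    refine le_antisymm hle (Ideal.span_le.mpr ?_)
    simp only [Finset.coe_image, Set.image_subset_iff]
    intro j hj
    rw [Set.mem_preimage, SetLike.mem_coe, IsLocalRing.mem_maximalIdeal]
    intro hu
    obtain ⟨u, hu⟩ := hu
    obtain ⟨w, hw⟩ := Ideal.Quotient.mk_surjective (↑u⁻¹ : R ⧸ Ideal.span {x})
    have h1 : j * w - 1 ∈ Ideal.span {x} := Ideal.Quotient.eq.mp (by rw [map_mul, ← hu, hw, map_one, Units.mul_inv])
    refine (maximalIdeal.isMaximal R).ne_top ((Ideal.eq_top_iff_one _).mpr ?_)
    have h2 : j * w ∈ maximalIdeal R := Ideal.mul_mem_right _ _ (hsm j (Finset.mem_of_mem_erase hj))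
    simpa using sub_mem h2 ((Ideal.span_singleton_le_iff_mem _).mpr hx h1)
  rw [heq]
  calc _ ≤ ((s.erase i).image (Ideal.Quotient.mk (Ideal.span {x}))).card + 1 :=
        Nat.add_le_add_right (Submodule.spanFinrank_span_le_ncard_of_finite (Finset.finite_toSet _) |>.trans
          (Set.ncard_coe_finset _).le) 1
    _ ≤ (s.erase i).card + 1 := Nat.add_le_add_right Finset.card_image_le 1
    _ = _ := by rw [Finset.card_erase_add_one hi, hcard]

/-- The quotient of a regular local ring by an element outside the square of the maximal ideal. -/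
theorem isRegularLocalRing_quot [IsRegularLocalRing R] {x : R} (hx : x ∈ maximalIdeal R)
    (hx2 : x ∉ maximalIdeal R ^ 2) :
    IsRegularLocalRing (R ⧸ Ideal.span {x}) ∧ IsSMulRegular R x := by
  haveI := Groth.Agent.RegLoc.isDomain R
  haveI := isLocalRing_quot hx
  have hx0 : x ≠ 0 := fun h => hx2 (h ▸ zero_mem _)
  have hreg : IsSMulRegular R x := fun a b hab => mul_left_cancel₀ hx0 hab
  refine ⟨IsRegularLocalRing.of_spanFinrank_maximalIdeal_le _ ?_, hreg⟩
  have h1 := ringKrullDim_quotient_span_singleton_succ_eq_ringKrullDim hreg hx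
  rw [← IsRegularLocalRing.spanFinrank_maximalIdeal (R := R)] at h1
  rw [← ENat.WithBot.add_le_add_natCast_right_iff (c := 1), Nat.cast_one, h1]
  exact_mod_cast spanFinrank_quot_succ_le hx hx2

theorem isRegularLocalRing_of_quot {x : R} (hx : x ∈ maximalIdeal R) (hreg : IsSMulRegular R x)
    [IsRegularLocalRing (R ⧸ Ideal.span {x})] : IsRegularLocalRing R := by
  classical
  refine IsRegularLocalRing.of_spanFinrank_maximalIdeal_le _ ?_
  obtain ⟨s, hcard, hspan⟩ := Submodule.FG.exists_span_finset_card_eq_spanFinrank
    (IsNoetherian.noetherian (maximalIdeal (R ⧸ Ideal.span {x})))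
  choose l hl using fun v : R ⧸ Ideal.span {x} => Ideal.Quotient.mk_surjective v
  have heq : maximalIdeal R = Ideal.span (insert x (s.image l) : Set R) := by
    refine le_antisymm (fun r hr => ?_) (Ideal.span_le.mpr ?_)
    · have hr' : Ideal.Quotient.mk (Ideal.span {x}) r ∈
          (Ideal.span (insert x (s.image l) : Set R)).map (Ideal.Quotient.mk (Ideal.span {x})) := by
        rw [Ideal.map_span]
        refine (?_ : maximalIdeal (R ⧸ Ideal.span {x}) ≤ _) ?_
        · rw [← hspan]
          refine Ideal.span_le.mpr fun v hv => Ideal.subset_span ⟨l v, ?_, hl v⟩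
          simp only [Set.mem_insert_iff, Finset.coe_image]
          exact Or.inr ⟨v, hv, rfl⟩
        · rw [IsLocalRing.mem_maximalIdeal]
          intro hu
          obtain ⟨w, hw⟩ := Ideal.Quotient.mk_surjective (↑hu.unit⁻¹ : R ⧸ Ideal.span {x})
          have h1 : r * w - 1 ∈ maximalIdeal R := (Ideal.span_singleton_le_iff_mem _).mpr hx
            (Ideal.Quotient.eq.mp (by rw [map_mul, hw, map_one, IsUnit.mul_val_inv]))
          exact (maximalIdeal.isMaximal R).ne_top ((Ideal.eq_top_iff_one _).mpr
            (by simpa using sub_mem (Ideal.mul_mem_right w _ hr) h1))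
      obtain ⟨y, hy, hyr⟩ := (Ideal.mem_map_iff_of_surjective _ Ideal.Quotient.mk_surjective).mp hr'
      have : r - y ∈ Ideal.span (insert x (s.image l) : Set R) :=
        Ideal.span_mono (by simp) (Ideal.Quotient.eq.mp hyr.symm)
      simpa using add_mem hy this
    · intro v hv
      simp only [Set.mem_insert_iff, Finset.coe_image, Set.mem_image] at hv
      rcases hv with rfl | ⟨w, hw, rfl⟩
      · exact hx
      · rw [SetLike.mem_coe, IsLocalRing.mem_maximalIdeal]
        intro hu
        have := hu.map (Ideal.Quotient.mk (Ideal.span {x}))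
        rw [hl] at this
        exact (IsLocalRing.mem_maximalIdeal _).mp (hspan ▸ Submodule.subset_span hw) this
  have h1 := ringKrullDim_quotient_span_singleton_succ_eq_ringKrullDim hreg hx
  rw [← h1, ← IsRegularLocalRing.spanFinrank_maximalIdeal (R := R ⧸ Ideal.span {x}), heq]
  refine le_trans (Nat.cast_le.mpr ((Submodule.spanFinrank_span_le_ncard_of_finite
    ((Finset.finite_toSet _).insert x)).trans ?_)) (Nat.cast_add _ 1).le
  refine (Set.ncard_insert_le _ _).trans (Nat.add_le_add_right ?_ 1)
  rw [Set.ncard_coe_finset, ← hcard]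
  exact Finset.card_image_le

/-- Finite modules over a regular local ring of dimension `d` have projective dimension at most `d`. -/
theorem pdLE_finite : ∀ (d : ℕ) (R : Type u) [CommRing R] [IsRegularLocalRing R],
    ringKrullDim R = d → ∀ (M : Type u) [AddCommGroup M] [Module R M] [Module.Finite R M], PdLE R M d := by
  intro d
  induction d with
  | zero =>
    intro R _ _ hd M _ _ _
    have h0 : maximalIdeal R = ⊥ := by
      rw [← Submodule.spanFinrank_eq_zero_iff_eq_bot (IsNoetherian.noetherian _)]
      exact Nat.cast_eq_zero.mp (IsRegularLocalRing.spanFinrank_maximalIdeal.trans hd)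
    letI := (IsLocalRing.isField_iff_maximalIdeal_eq.mpr h0).toField
    rw [pdLE_zero_iff]
    exact @Module.Projective.of_free _ _ _ _ _ (Module.Free.of_divisionRing R M)
  | succ d ih =>
    intro R _ _ hd M _ _ _
    have hne : maximalIdeal R ≠ ⊥ := by
      intro h0
      have h1 : ((maximalIdeal R).spanFinrank : WithBot ℕ∞) = ((d + 1 : ℕ) : WithBot ℕ∞) :=
        IsRegularLocalRing.spanFinrank_maximalIdeal.trans hd
      rw [h0, Submodule.spanFinrank_bot] at h1
      have h2 : 0 = d + 1 := by exact_mod_cast h1
      omega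
    obtain ⟨x, hx, hx2⟩ := exists_notMem_sq hne
    obtain ⟨hSreg, hreg⟩ := isRegularLocalRing_quot hx hx2
    have hd' : ringKrullDim (R ⧸ Ideal.span {x}) = d := by
      have h1 := ringKrullDim_quotient_span_singleton_succ_eq_ringKrullDim hreg hx
      rw [hd, Nat.cast_add, Nat.cast_one] at h1
      exact le_antisymm (ENat.WithBot.add_le_add_one_right_iff.mp h1.le)
        (ENat.WithBot.add_le_add_one_right_iff.mp h1.ge)
    obtain ⟨k, f, hf⟩ := Module.Finite.exists_fin' R M
    rw [pdLE_succ_iff f hf]
    let I : Ideal R := Ideal.span {x}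
    haveI : Module.Finite (R ⧸ I) (LinearMap.ker f ⧸ I • (⊤ : Submodule R (LinearMap.ker f))) :=
      Module.Finite.of_restrictScalars_finite R _ _
    exact pdLE_of_modX (S := R ⧸ I) Ideal.Quotient.mk_surjective (mk_eq_zero_iff_dvd x) hreg hx d
      (LinearMap.ker f) (LinearMap.ker f ⧸ I • (⊤ : Submodule R (LinearMap.ker f)))
      (Submodule.mkQ _) (Submodule.mkQ_surjective _) (mem_span_smul_top_iff x)
      (fun a b hab => Subtype.ext (funext fun i => hreg (congrFun (congrArg Subtype.val hab) i)))
      (ih (R ⧸ I) hd' _)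

/-- Injective dimension is detected by cyclic modules. -/
theorem hasInjectiveDimensionLE_of_cyclic {R : Type u} [CommRing R] (n : ℕ) :
    ∀ (Y : ModuleCat.{u} R),
      (∀ I : Ideal R, Subsingleton (Ext.{u} (ModuleCat.of R (R ⧸ I)) Y (n + 1))) →
      HasInjectiveDimensionLE Y n := by
  induction n with
  | zero =>
    intro Y h
    suffices Injective Y by exact inferInstanceAs (HasInjectiveDimensionLT Y 1)
    suffices Module.Injective R Y from Module.injective_object_of_injective_module R Y
    refine Module.Baer.injective fun I g => ?_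
    let f := Submodule.mkQ I
    have hS : (f.shortComplexKer).ShortExact :=
      LinearMap.shortExact_shortComplexKer (Submodule.mkQ_surjective I)
    obtain ⟨φ, hφ⟩ := Ext.contravariant_sequence_exact₁ hS Y
      (Ext.mk₀ (ModuleCat.ofHom (g.comp (LinearEquiv.ofEq _ _ (Submodule.ker_mkQ I)).toLinearMap)))
      (zero_add 1) (@Subsingleton.elim _ (h I) _ _)
    obtain ⟨φ, rfl⟩ := Ext.homEquiv₀.symm.surjective φ
    rw [Ext.homEquiv₀_symm_apply, Ext.mk₀_comp_mk₀] at hφ
    have h2 := congrArg ModuleCat.Hom.hom ((Ext.mk₀_bijective _ _).1 hφ)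
    refine ⟨φ.hom, fun x hx => ?_⟩
    exact LinearMap.congr_fun h2 ⟨x, by rw [Submodule.ker_mkQ]; exact hx⟩
  | succ n ih =>
    intro Y h
    obtain ⟨pr⟩ := EnoughInjectives.presentation Y
    have hS : (ShortComplex.mk _ _ (Limits.cokernel.condition pr.f)).ShortExact :=
      { exact := ShortComplex.exact_cokernel pr.f }
    refine (hS.hasInjectiveDimensionLT_X₃_iff n inferInstance).mp (ih _ fun I => ⟨fun a b => ?_⟩)
    suffices ∀ e : Ext.{u} (ModuleCat.of R (R ⧸ I)) (Limits.cokernel pr.f) (n + 1), e = 0 by
      rw [this a, this b]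
    intro e
    obtain ⟨x₂, rfl⟩ := Ext.covariant_sequence_exact₃ _ hS e rfl (@Subsingleton.elim _ (h I) _ _)
    rw [Ext.eq_zero_of_injective x₂, Ext.zero_comp]

/-- Every module over a regular local ring of dimension `d` has projective dimension at most `d`. -/
theorem pdLE_of_isRegularLocalRing (R : Type u) [CommRing R] [IsRegularLocalRing R] (d : ℕ)
    (hd : ringKrullDim R = d) (M : Type u) [AddCommGroup M] [Module R M] : PdLE R M d := by
  refine hasProjectiveDimensionLT_of_enoughInjectives.{u} _ _ fun Y => ?_
  haveI : HasInjectiveDimensionLE Y d := hasInjectiveDimensionLE_of_cyclic d Y fun I =>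
    haveI : HasProjectiveDimensionLE (ModuleCat.of R (R ⧸ I)) d := pdLE_finite d R hd _
    HasProjectiveDimensionLT.subsingleton _ (d + 1) _ le_rfl Y
  exact HasInjectiveDimensionLT.subsingleton Y (d + 1) _ le_rfl _

/-- If the maximal ideal kills a nonzero element, modules of finite projective dimension are free. -/
theorem free_of_pdLE_of_socle {R : Type u} [CommRing R] [IsLocalRing R] [IsNoetherianRing R]
    {a : R} (ha : a ≠ 0) (ham : ∀ r ∈ maximalIdeal R, r * a = 0) (n : ℕ) :
    ∀ (M : Type u) [AddCommGroup M] [Module R M] [Module.Finite R M], PdLE R M n → Module.Free R M := by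
  classical
  induction n with
  | zero =>
    intro M _ _ _ h
    rw [pdLE_zero_iff] at h
    exact Module.free_of_flat_of_isLocalRing
  | succ n ih =>
    intro M _ _ _ h
    obtain ⟨s, hcard, hspan⟩ := Submodule.FG.exists_span_finset_card_eq_spanFinrank
      (Module.Finite.fg_top (R := R) (M := M))
    let f : (s → R) →ₗ[R] M := Fintype.linearCombination R ((↑) : s → M)
    have hf : Function.Surjective f := LinearMap.range_eq_top.mp (by
      rw [Fintype.range_linearCombination, Subtype.range_coe]; exact hspan)
    have hker : ∀ w ∈ LinearMap.ker f, ∀ i, w i ∈ maximalIdeal R := by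
      intro w hw i
      rw [IsLocalRing.mem_maximalIdeal]
      intro hu
      have hi : (i : M) ∈ Submodule.span R ((s.erase i.1 : Finset M) : Set M) := by
        have h0 : ∑ j : s, w j • (j : M) = 0 := by simpa [f, Fintype.linearCombination_apply] using hw
        rw [← Finset.add_sum_erase _ _ (Finset.mem_univ i), add_eq_zero_iff_eq_neg] at h0
        suffices hu.unit⁻¹.val • (w i • (i : M)) ∈ Submodule.span R ((s.erase i.1 : Finset M) : Set M) by
          rwa [← mul_smul, hu.val_inv_mul, one_smul] at this
        rw [h0]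
        refine Submodule.smul_mem _ _ (neg_mem (Submodule.sum_mem _ fun j hj => Submodule.smul_mem _ _
          (Submodule.subset_span (Finset.mem_erase.mpr ⟨fun hji => (Finset.mem_erase.mp hj).1
            (Subtype.ext hji), j.2⟩))))
      have hle : (⊤ : Submodule R M) ≤ Submodule.span R ((s.erase i.1 : Finset M) : Set M) := by
        rw [← hspan, Submodule.span_le]
        intro j hj
        by_cases hji : j = i.1
        · exact hji ▸ hi
        · exact Submodule.subset_span (Finset.mem_erase.mpr ⟨hji, hj⟩)
      have h1 := Submodule.spanFinrank_span_le_ncard_of_finite (R := R)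
        (Finset.finite_toSet (s.erase i.1))
      rw [top_le_iff.mp hle, Set.ncard_coe_finset, Finset.card_erase_of_mem i.2, ← hcard] at h1
      have : 0 < s.card := Finset.card_pos.mpr ⟨i.1, i.2⟩
      omega
    haveI := ih (LinearMap.ker f) ((pdLE_succ_iff f hf n).mp h)
    have hbot : LinearMap.ker f = ⊥ := by
      rw [← Submodule.subsingleton_iff_eq_bot]
      by_contra hne
      rw [not_subsingleton_iff_nontrivial] at hne
      let b := Module.Free.chooseBasis R (LinearMap.ker f)
      obtain ⟨i⟩ := b.index_nonempty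
      have h0 : a • b i = 0 := Subtype.ext (funext fun j => by
        show a * (b i).1 j = 0
        rw [mul_comm]
        exact ham _ (hker _ (b i).2 j))
      have h1 := congrArg (fun v => b.repr v i) h0
      simp at h1
      exact ha h1
    exact Module.Free.of_equiv (LinearEquiv.ofBijective f ⟨LinearMap.ker_eq_bot.mp hbot, hf⟩)

set_option synthInstance.maxHeartbeats 80000 in
/-- A local ring whose residue field has finite projective dimension is regular. -/
theorem isRegularLocalRing_of_pdLE_residueField (k : ℕ) :
    ∀ (R : Type u) [CommRing R] [IsLocalRing R] [IsNoetherianRing R], ringKrullDim R < k →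
      ∀ n, PdLE R (ResidueField R) n → IsRegularLocalRing R := by
  classical
  induction k with
  | zero =>
    intro R _ _ _ hk
    exact absurd (ringKrullDim_nonneg_of_nontrivial (R := R)) (not_le.mpr (by simpa using hk))
  | succ k ih =>
    intro R _ _ _ hk n hn
    by_cases h0 : maximalIdeal R = ⊥
    · refine IsRegularLocalRing.of_spanFinrank_maximalIdeal_le _ ?_
      rw [h0, Submodule.spanFinrank_bot, Nat.cast_zero]
      exact ringKrullDim_nonneg_of_nontrivial
    haveI : Module.Finite R (ResidueField R) :=
      Module.Finite.of_surjective (Algebra.linearMap R (ResidueField R)) residue_surjective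
    obtain ⟨x, hx, hxnd, hx2⟩ : ∃ x ∈ maximalIdeal R, x ∈ nonZeroDivisors R ∧ x ∉ maximalIdeal R ^ 2 := by
      by_contra hall
      push Not at hall
      have hsub : (maximalIdeal R : Set R) ⊆
          ⋃ i ∈ insert (maximalIdeal R ^ 2) (associatedPrimes R R), (id i : Ideal R) := by
        intro y hy
        rw [Set.biUnion_insert]
        by_cases hy2 : y ∈ maximalIdeal R ^ 2
        · exact Or.inl hy2
        · refine Or.inr ?_
          have := biUnion_associatedPrimes_eq_compl_nonZeroDivisors R
          simp only [id]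
          rw [this]
          exact fun hnd => hy2 (hall y hy hnd)
      obtain ⟨P, hP, hle⟩ := (Ideal.subset_union_prime_finite ((associatedPrimes.finite R R).insert _)
        (f := id) (maximalIdeal R ^ 2) (maximalIdeal R ^ 2) (fun i hi h1 _ => by
          rcases hi with rfl | hi
          · exact absurd rfl h1
          · exact hi.isPrime)).mp hsub
      rcases hP with rfl | hP
      · obtain ⟨y, hy, hy2⟩ := exists_notMem_sq h0
        exact hy2 (hle hy)
      · obtain ⟨hprime, a, ha⟩ := isAssociatedPrime_iff.mp hP
        have ha0 : a ≠ 0 := by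
          rintro rfl
          refine hprime.ne_top ((Ideal.eq_top_iff_one _).mpr ?_)
          rw [ha, Submodule.mem_colon_singleton, smul_zero]
          exact zero_mem _
        haveI hnt : Nontrivial (ResidueField R) := ⟨⟨1, 0, fun h => (maximalIdeal.isMaximal R).ne_top
          ((Ideal.eq_top_iff_one _).mpr ((residue_eq_zero_iff 1).mp ((map_one (residue R)).trans h)))⟩⟩
        haveI := free_of_pdLE_of_socle ha0 (fun r hr => by
          have h1 : r ∈ P := hle hr
          rw [ha, Submodule.mem_colon_singleton, Submodule.mem_bot] at h1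
          exact h1) n (ResidueField R) hn
        let b := Module.Free.chooseBasis R (ResidueField R)
        obtain ⟨i⟩ := b.index_nonempty
        refine h0 (eq_bot_iff.mpr fun r hr => ?_)
        have h1 : r • b i = 0 := by
          rw [Algebra.smul_def, ResidueField.algebraMap_eq, (residue_eq_zero_iff r).mpr hr, zero_mul]
        have h2 := congrArg (fun v => b.repr v i) h1
        simpa using h2
    haveI := isLocalRing_quot hx
    have hreg : IsSMulRegular R x := Module.Flat.isSMulRegular_of_nonZeroDivisors hxnd
    let I : Ideal R := Ideal.span {x}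
    let S := R ⧸ I
    have hm : PdLE R (maximalIdeal R) n := by
      have h1 := (pdLE_succ_iff (Algebra.linearMap R (ResidueField R)) residue_surjective n).mp
        (pdLE_mono (Nat.le_succ n) hn)
      refine pdLE_of_equiv (LinearEquiv.ofEq _ _ ?_) h1
      ext r
      exact residue_eq_zero_iff r
    let m' := maximalIdeal R ⧸ I • (⊤ : Submodule R (maximalIdeal R))
    have hm' : PdLE S m' n := pdLE_modX Ideal.Quotient.mk_surjective (mk_eq_zero_iff_dvd x) hreg n
      (maximalIdeal R) m' (Submodule.mkQ _) (Submodule.mkQ_surjective _) (mem_span_smul_top_iff x)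
      (fun a b hab => Subtype.ext (hreg (congrArg Subtype.val hab))) hm
    -- the maximal ideal of the quotient is a direct summand
    obtain ⟨g, hg⟩ : ∃ g : CotangentSpace R →ₗ[ResidueField R] ResidueField R,
        g ((maximalIdeal R).toCotangent ⟨x, hx⟩) = 1 := by
      have hc : (maximalIdeal R).toCotangent ⟨x, hx⟩ ≠ 0 := fun h =>
        hx2 (((maximalIdeal R).toCotangent_eq_zero _).mp h)
      obtain ⟨g, hg⟩ := LinearMap.exists_extend
        (LinearEquiv.coord (ResidueField R) (CotangentSpace R) _ hc).toLinearMap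
      refine ⟨g, ?_⟩
      exact (LinearMap.congr_fun hg ⟨_, Submodule.mem_span_singleton_self _⟩).trans
        (LinearEquiv.coord_self _ _ _ hc)
    let xb : m' := Submodule.Quotient.mk ⟨x, hx⟩
    let j : ResidueField R →ₗ[R] m' := Submodule.liftQ (maximalIdeal R)
      (LinearMap.toSpanSingleton R m' xb) fun r hr => by
        rw [LinearMap.mem_ker, LinearMap.toSpanSingleton_apply, ← Submodule.Quotient.mk_smul,
          mem_span_smul_top_iff]
        exact ⟨⟨r, hr⟩, Subtype.ext (mul_comm r x)⟩
    let e : maximalIdeal R →ₗ[R] m' :=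
      Submodule.mkQ _ - j.comp ((g.restrictScalars R).comp (maximalIdeal R).toCotangent)
    have hex : e ⟨x, hx⟩ = 0 := by
      simp only [e, LinearMap.sub_apply, LinearMap.comp_apply, LinearMap.restrictScalars_apply, hg]
      rw [sub_eq_zero]
      exact (one_smul R xb).symm
    let π0 : maximalIdeal R →ₗ[R] maximalIdeal S :=
      LinearMap.codRestrict ((maximalIdeal S).restrictScalars R)
        ((Algebra.linearMap R S).comp (maximalIdeal R).subtype) fun y => by
          show Ideal.Quotient.mk I y.1 ∈ maximalIdeal S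
          rw [IsLocalRing.mem_maximalIdeal]
          intro hu
          haveI : IsLocalHom (Ideal.Quotient.mk I) :=
            IsLocalHom.of_surjective _ Ideal.Quotient.mk_surjective
          exact (IsLocalRing.mem_maximalIdeal _).mp y.2 (hu.of_map (Ideal.Quotient.mk I))
    have hπ0 : Function.Surjective π0 := fun v => by
      obtain ⟨r, hr⟩ := Ideal.Quotient.mk_surjective v.1
      refine ⟨⟨r, ?_⟩, Subtype.ext hr⟩
      rw [IsLocalRing.mem_maximalIdeal]
      intro hu
      have := hu.map (Ideal.Quotient.mk I)
      rw [hr] at this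
      exact (IsLocalRing.mem_maximalIdeal _).mp v.2 this
    have hπ0ker : ∀ y, π0 y = 0 ↔ ∃ r : R, y = r • (⟨x, hx⟩ : maximalIdeal R) := fun y => by
      rw [Subtype.ext_iff]
      refine ((mk_eq_zero_iff_dvd x y.1).trans ?_)
      exact exists_congr fun r => ⟨fun h => Subtype.ext (h.trans (mul_comm x r)),
        fun h => (congrArg Subtype.val h).trans (mul_comm r x)⟩
    let σ0 : maximalIdeal S →ₗ[R] m' := ((LinearMap.ker π0).liftQ e fun y hy => by
        obtain ⟨r, rfl⟩ := (hπ0ker y).mp hy
        rw [LinearMap.mem_ker, map_smul, hex, smul_zero]).comp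
      (π0.quotKerEquivOfSurjective hπ0).symm.toLinearMap
    let π1 : m' →ₗ[R] maximalIdeal S := Submodule.liftQ _ π0 fun y hy => by
      obtain ⟨z, hz⟩ := (mem_span_smul_top_iff x y).mp ((Submodule.Quotient.mk_eq_zero _).mpr hy)
      exact (hπ0ker y).mpr ⟨z.1, by rw [hz]; exact Subtype.ext (mul_comm x z.1)⟩
    have hret : (LinearMap.extendScalarsOfSurjective Ideal.Quotient.mk_surjective π1 : m' →ₗ[S] _).comp
        (LinearMap.extendScalarsOfSurjective Ideal.Quotient.mk_surjective σ0) = LinearMap.id := by
      refine LinearMap.ext fun v => ?_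
      obtain ⟨y, rfl⟩ := hπ0 v
      have h1 : σ0 (π0 y) = e y := by
        have h : (π0.quotKerEquivOfSurjective hπ0).symm (π0 y) = Submodule.Quotient.mk y := by
          rw [LinearEquiv.symm_apply_eq, LinearMap.quotKerEquivOfSurjective_apply_mk]
        simp only [σ0, LinearMap.comp_apply, LinearEquiv.coe_coe, h]
        exact Submodule.liftQ_apply _ _ _
      show π1 (σ0 (π0 y)) = π0 y
      rw [h1]
      simp only [e, LinearMap.sub_apply, map_sub, LinearMap.comp_apply]
      rw [show π1 (Submodule.mkQ _ y) = π0 y from rfl, sub_eq_self]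
      obtain ⟨r, hr⟩ := residue_surjective (g ((maximalIdeal R).toCotangent y))
      rw [LinearMap.restrictScalars_apply, ← hr]
      show π1 (r • xb) = 0
      rw [map_smul]
      have : π1 xb = 0 := (hπ0ker ⟨x, hx⟩).mpr ⟨1, (one_smul R _).symm⟩
      rw [this, smul_zero]
    have hmS : PdLE S (maximalIdeal S) n := pdLE_of_retract _ _ hret hm'
    have hκ : PdLE S (ResidueField S) (n + 1) := by
      refine (pdLE_succ_iff (Algebra.linearMap S (ResidueField S)) residue_surjective n).mpr
        (pdLE_of_equiv (LinearEquiv.ofEq _ _ ?_) hmS)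
      ext r
      exact (residue_eq_zero_iff r).symm
    have hdim : ringKrullDim S < k := by
      have h1 := ringKrullDim_quotient_span_singleton_succ_eq_ringKrullDim hreg hx
      rw [← h1, Nat.cast_add, Nat.cast_one] at hk
      by_contra hlt
      exact not_le.mpr hk (ENat.WithBot.add_le_add_one_right_iff.mpr (not_lt.mp hlt))
    haveI := ih S hdim (n + 1) hκ
    exact isRegularLocalRing_of_quot hx hreg

/-- Serre: finite projective dimension of the residue field characterises regularity. -/
theorem isRegularLocalRing_of_pdLE (R : Type u) [CommRing R] [IsLocalRing R] [IsNoetherianRing R]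
    (n : ℕ) (h : PdLE R (ResidueField R) n) : IsRegularLocalRing R := by
  obtain ⟨k, hk⟩ : ∃ k : ℕ, ringKrullDim R < k := by
    refine ⟨(maximalIdeal R).spanFinrank + 1, (ringKrullDim_le_spanFinrank_maximalIdeal R).trans_lt ?_⟩
    exact_mod_cast Nat.lt_succ_self _
  exact isRegularLocalRing_of_pdLE_residueField k R hk n h

end Groth.Agent.SerreReg
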