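import Groth.Agent.SerreReg.Regular
import Mathlib.RingTheory.Ideal.GoingDown
import Mathlib.RingTheory.Flat.FaithfullyFlat.Algebra
import Mathlib.RingTheory.Localization.FractionRing

/-!
Localisation and flat descent of regular local rings.
-/

universe u

namespace Groth.Agent.SerreReg

open CategoryTheory IsLocalRing
open scoped TensorProduct

/-- Projective dimension descends along faithfully flat maps, finite modules over local rings. -/
theorem pdLE_of_tensor (R : Type u) [CommRing R] [IsLocalRing R] [IsNoetherianRing R] (S : Type u)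
    [CommRing S] [Algebra R S] [Module.FaithfullyFlat R S] (n : ℕ) :
    ∀ (M : Type u) [AddCommGroup M] [Module R M] [Module.Finite R M],
      PdLE S (S ⊗[R] M) n → PdLE R M n := by
  induction n with
  | zero =>
    intro M _ _ _ h
    rw [pdLE_zero_iff] at h ⊢
    haveI : Module.Flat R M := Module.Flat.of_flat_tensorProduct R M S
    haveI : Module.Free R M := Module.free_of_flat_of_isLocalRing
    exact Module.Projective.of_free
  | succ n ih =>
    intro M _ _ _ h
    obtain ⟨k, f, hf⟩ := Module.Finite.exists_fin' R M
    rw [pdLE_succ_iff f hf]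
    have hf' : Function.Surjective (TensorProduct.AlgebraTensorModule.lTensor S S f) :=
      LinearMap.lTensor_surjective S hf
    rw [pdLE_succ_iff _ hf'] at h
    exact ih _ (pdLE_of_equiv (LinearMap.tensorKerEquiv S S f).symm h)

theorem exists_dim (R : Type u) [CommRing R] [IsRegularLocalRing R] : ∃ d : ℕ, ringKrullDim R = d :=
  ⟨_, IsRegularLocalRing.spanFinrank_maximalIdeal.symm⟩

/-- Regularity descends along flat local homomorphisms. -/
theorem isRegularLocalRing_of_flat (R : Type u) [CommRing R] [IsLocalRing R] [IsNoetherianRing R]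
    (S : Type u) [CommRing S] [IsRegularLocalRing S] [Algebra R S] [IsLocalHom (algebraMap R S)]
    [Module.Flat R S] : IsRegularLocalRing R := by
  obtain ⟨d, hd⟩ := exists_dim S
  haveI : Module.Finite R (ResidueField R) :=
    Module.Finite.of_surjective (Algebra.linearMap R (ResidueField R)) residue_surjective
  haveI : Module.FaithfullyFlat R S := Module.FaithfullyFlat.of_flat_of_isLocalHom
  exact isRegularLocalRing_of_pdLE R d (pdLE_of_tensor R S d _ (pdLE_of_isRegularLocalRing S d hd _))

/-- Localisations of regular local rings at primes are regular. -/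
theorem isRegularLocalRing_localization (R : Type u) [CommRing R] [IsRegularLocalRing R] (p : Ideal R)
    [p.IsPrime] : IsRegularLocalRing (Localization.AtPrime p) := by
  obtain ⟨d, hd⟩ := exists_dim R
  haveI : HasProjectiveDimensionLE (ModuleCat.of R (R ⧸ p)) d :=
    pdLE_of_isRegularLocalRing R d hd _
  have h := ModuleCat.localizedModule_hasProjectiveDimensionLE d p.primeCompl (ModuleCat.of R (R ⧸ p))
  let L := Localization.AtPrime p
  refine isRegularLocalRing_of_pdLE L d ?_
  let κ := ResidueField L
  let φ : (R ⧸ p) →ₗ[R] κ := (IsScalarTower.toAlgHom R (R ⧸ p) p.ResidueField).toLinearMap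
  haveI : IsLocalization (Algebra.algebraMapSubmonoid (R ⧸ p) p.primeCompl) p.ResidueField := by
    have heq : Algebra.algebraMapSubmonoid (R ⧸ p) p.primeCompl = nonZeroDivisors (R ⧸ p) := by
      ext v
      obtain ⟨r, rfl⟩ := Ideal.Quotient.mk_surjective v
      rw [mem_nonZeroDivisors_iff_ne_zero, ne_eq, Ideal.Quotient.eq_zero_iff_mem]
      refine ⟨?_, fun hr => ⟨r, hr, rfl⟩⟩
      rintro ⟨s, hs, hsr⟩ hr
      exact hs (by simpa using sub_mem hr (Ideal.Quotient.eq.mp hsr.symm))
    rw [heq]
    exact inferInstanceAs (IsFractionRing (R ⧸ p) p.ResidueField)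
  haveI : IsLocalizedModule p.primeCompl φ := isLocalizedModule_iff_isLocalization.mpr inferInstance
  haveI := ModuleCat.localizedModule_isLocalizedModule (ModuleCat.of R (R ⧸ p)) p.primeCompl
  let e : (ModuleCat.of R (R ⧸ p)).localizedModule p.primeCompl ≃ₗ[R] κ :=
    IsLocalizedModule.linearEquiv p.primeCompl
      ((ModuleCat.of R (R ⧸ p)).localizedModuleMkLinearMap p.primeCompl) φ
  exact pdLE_of_equiv (LinearEquiv.extendScalarsOfIsLocalization p.primeCompl L e) h

theorem isRegularRing_of_isRegularLocalRing (R : Type u) [CommRing R] [IsRegularLocalRing R] :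
    IsRegularRing R :=
  isRegularRing_iff.mpr fun p _ => isRegularLocalRing_localization R p

/-- Regularity descends along faithfully flat maps. -/
theorem isRegularRing_of_faithfullyFlat (R : Type u) [CommRing R] (S : Type u) [CommRing S]
    [Algebra R S] [Module.FaithfullyFlat R S] [IsRegularRing S] : IsRegularRing R := by
  haveI : IsNoetherianRing R := by
    let c : Ideal R ↪o Ideal S := OrderEmbedding.ofMapLEIff (Ideal.map (algebraMap R S)) fun I J =>
      ⟨fun h => by simpa [Ideal.comap_map_eq_self_of_faithfullyFlat] using Ideal.comap_mono (f := algebraMap R S) h,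
        Ideal.map_mono⟩
    rw [isNoetherianRing_iff, isNoetherian_iff']
    exact c.wellFoundedGT
  refine isRegularRing_iff.mpr fun p hp => ?_
  obtain ⟨q, hq⟩ := PrimeSpectrum.comap_surjective_of_faithfullyFlat (B := S) ⟨p, hp⟩
  haveI : q.asIdeal.LiesOver p := ⟨congrArg PrimeSpectrum.asIdeal hq.symm⟩
  letI := Localization.AtPrime.algebraOfLiesOver p q.asIdeal
  haveI : IsLocalHom (algebraMap (Localization.AtPrime p) (Localization.AtPrime q.asIdeal)) := by
    rw [RingHom.algebraMap_toAlgebra]
    exact Localization.isLocalHom_localRingHom p q.asIdeal (algebraMap R S) Ideal.LiesOver.over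
  exact isRegularLocalRing_of_flat (Localization.AtPrime p) (Localization.AtPrime q.asIdeal)

end Groth.Agent.SerreReg
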