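import Groth.Agent.SerreReg.Descent
import Groth.Agent.CMSop.Sop
import Mathlib.RingTheory.Ideal.GoingUp
import Mathlib.Order.KrullDimension

/-!
Regular sequences in regular local rings and miracle flatness, finite case.
-/

universe u v

namespace Groth.Agent.SerreReg

open IsLocalRing RingTheory.Sequence
open scoped Pointwise

/-- A regular local ring has its maximal ideal generated by a regular sequence of length its dimension. -/
theorem exists_regular_rsop : ∀ (d : ℕ) (R : Type u) [CommRing R] [IsRegularLocalRing R],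
    ringKrullDim R = d → ∃ rs : List R, rs.length = d ∧ IsWeaklyRegular R rs ∧
      Ideal.ofList rs = maximalIdeal R := by
  intro d
  induction d with
  | zero =>
    intro R _ _ hd
    refine ⟨[], rfl, IsWeaklyRegular.nil R R, ?_⟩
    rw [Ideal.ofList_nil, eq_comm, ← Submodule.spanFinrank_eq_zero_iff_eq_bot (IsNoetherian.noetherian _)]
    exact Nat.cast_eq_zero.mp (IsRegularLocalRing.spanFinrank_maximalIdeal.trans hd)
  | succ d ih =>
    intro R _ _ hd
    have hne : maximalIdeal R ≠ ⊥ := by
      intro h0
      have h1 : ((maximalIdeal R).spanFinrank : WithBot ℕ∞) = ((d + 1 : ℕ) : WithBot ℕ∞) :=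
        IsRegularLocalRing.spanFinrank_maximalIdeal.trans hd
      rw [h0, Submodule.spanFinrank_bot] at h1
      have h2 : 0 = d + 1 := by exact_mod_cast h1
      omega
    obtain ⟨x, hx, hx2⟩ := exists_notMem_sq hne
    obtain ⟨hSreg, hreg⟩ := isRegularLocalRing_quot hx hx2
    have hd' : ringKrullDim (R ⧸ Ideal.span {x}) = d := by
      have h1 := ringKrullDim_quotient_span_singleton_succ_eq_ringKrullDim hreg hx
      rw [hd, Nat.cast_add, Nat.cast_one] at h1
      exact le_antisymm (ENat.WithBot.add_le_add_one_right_iff.mp h1.le)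
        (ENat.WithBot.add_le_add_one_right_iff.mp h1.ge)
    obtain ⟨rs', hlen, hreg', hspan⟩ := ih (R ⧸ Ideal.span {x}) hd'
    obtain ⟨rs, rfl⟩ : ∃ rs : List R, rs.map (Ideal.Quotient.mk (Ideal.span {x})) = rs' := by
      refine ⟨rs'.map (Function.surjInv Ideal.Quotient.mk_surjective), ?_⟩
      rw [List.map_map]
      conv_rhs => rw [← List.map_id rs']
      exact List.map_congr_left fun r _ => Function.surjInv_eq Ideal.Quotient.mk_surjective r
    refine ⟨x :: rs, by simpa using hlen, IsWeaklyRegular.cons' hreg ?_, ?_⟩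
    · let e : (R ⧸ Ideal.span {x}) ≃+ QuotSMulTop x R :=
        (Submodule.quotEquivOfEq (Ideal.span {x} : Submodule R R) (x • ⊤)
          (by rw [← Submodule.ideal_span_singleton_smul, smul_eq_mul, Ideal.mul_top])).toAddEquiv
      refine (e.isWeaklyRegular_congr (as := rs.map (Ideal.Quotient.mk (Ideal.span {x})))
        (List.forall₂_same.mpr fun r _ y => ?_)).mp hreg'
      obtain ⟨s, rfl⟩ := Ideal.Quotient.mk_surjective r
      obtain ⟨t, rfl⟩ := Ideal.Quotient.mk_surjective y
      rfl
    · rw [Ideal.ofList_cons]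
      rw [← Ideal.map_ofList] at hspan
      have h1 := congrArg (Ideal.comap (Ideal.Quotient.mk (Ideal.span {x}))) hspan
      haveI : IsLocalHom (Ideal.Quotient.mk (Ideal.span {x})) :=
        IsLocalHom.of_surjective _ Ideal.Quotient.mk_surjective
      rw [Ideal.comap_map_of_surjective _ Ideal.Quotient.mk_surjective, ← RingHom.ker,
        Ideal.mk_ker, IsLocalRing.maximalIdeal_comap] at h1
      rw [sup_comm, h1]

/-- A finite module on which a regular system of parameters acts regularly is free. -/
theorem free_of_regular_rsop : ∀ (d : ℕ) (R : Type u) [CommRing R] [IsRegularLocalRing R] (rs : List R),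
    rs.length = d → IsWeaklyRegular R rs → Ideal.ofList rs = maximalIdeal R →
    ∀ (M : Type u) [AddCommGroup M] [Module R M] [Module.Finite R M],
      IsWeaklyRegular M rs → Module.Free R M := by
  intro d
  induction d with
  | zero =>
    intro R _ _ rs hlen _ hspan M _ _ _ _
    rw [List.eq_nil_of_length_eq_zero hlen, Ideal.ofList_nil] at hspan
    letI := (IsLocalRing.isField_iff_maximalIdeal_eq.mpr hspan.symm).toField
    exact Module.Free.of_divisionRing R M
  | succ d ih =>
    intro R _ _ rs hlen hreg hspan M _ _ _ hM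
    obtain ⟨x, rs, rfl⟩ : ∃ x rs', rs = x :: rs' := by
      cases rs with
      | nil => simp at hlen
      | cons a l => exact ⟨a, l, rfl⟩
    rw [isWeaklyRegular_cons_iff'] at hreg hM
    have hxm : x ∈ maximalIdeal R := by
      rw [← hspan, Ideal.ofList_cons]
      exact Ideal.mem_sup_left (Ideal.mem_span_singleton_self x)
    let I : Ideal R := Ideal.span {x}
    haveI := isLocalRing_quot hxm
    have hspan' : Ideal.ofList (rs.map (Ideal.Quotient.mk I)) = maximalIdeal (R ⧸ I) := by
      have h0 : Ideal.map (Ideal.Quotient.mk I) (maximalIdeal R) = maximalIdeal (R ⧸ I) :=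
        IsLocalRing.map_maximalIdeal_of_surjective _ Ideal.Quotient.mk_surjective
      rw [← h0, ← hspan, Ideal.map_ofList, List.map_cons, Ideal.ofList_cons,
        show Ideal.Quotient.mk I x = 0 from Ideal.Quotient.eq_zero_iff_mem.mpr (Ideal.mem_span_singleton_self x)]
      simp
    haveI : IsRegularLocalRing (R ⧸ I) := by
      refine IsRegularLocalRing.of_spanFinrank_maximalIdeal_le _ ?_
      have h1 := ringKrullDim_quotient_span_singleton_succ_eq_ringKrullDim hreg.1 hxm
      have hle : (maximalIdeal (R ⧸ I)).spanFinrank ≤ d := by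
        classical
        rw [← hspan', Ideal.ofList]
        refine (Submodule.spanFinrank_span_le_ncard_of_finite (List.finite_toSet _)).trans ?_
        rw [← List.coe_toFinset, Set.ncard_coe_finset]
        refine (List.toFinset_card_le _).trans ?_
        simp only [List.length_map]
        simp only [List.length_cons] at hlen
        omega
      have h2 : ((d + 1 : ℕ) : WithBot ℕ∞) ≤ ringKrullDim (R ⧸ I) + 1 := by
        rw [h1]
        refine le_trans ?_ (le_of_eq (IsRegularLocalRing.spanFinrank_maximalIdeal (R := R)))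
        by_contra hlt
        have : (maximalIdeal R).spanFinrank < d + 1 := by exact_mod_cast not_le.mp hlt
        have h3 := CMSop.hasRegSeq_of_isWeaklyRegular (x :: rs) R
          ((isWeaklyRegular_cons_iff' R x rs).mpr hreg) (fun r hr => hspan ▸ Ideal.subset_span hr)
        rw [hlen] at h3
        obtain ⟨p, hp⟩ := associatedPrimes.nonempty R R
        have h4 := (CMSop.le_ringKrullDim_quotient_of_hasRegSeq _ inferInstance h3 p hp).trans
          ((ringKrullDim_quotient_le p).trans (ringKrullDim_le_spanFinrank_maximalIdeal R))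
        norm_cast at h4
        omega
      rw [Nat.cast_add, Nat.cast_one] at h2
      exact (Nat.cast_le.mpr hle).trans (ENat.WithBot.add_le_add_one_right_iff.mp h2)
    haveI : Module.Finite (R ⧸ I) (QuotSMulTop x M) := Module.Finite.of_restrictScalars_finite R _ _
    have hreg' : IsWeaklyRegular (R ⧸ I) (rs.map (Ideal.Quotient.mk I)) := by
      let e : QuotSMulTop x R ≃+ (R ⧸ I) :=
        (Submodule.quotEquivOfEq (x • ⊤) (I : Submodule R R)
          (by rw [← Submodule.ideal_span_singleton_smul, smul_eq_mul, Ideal.mul_top])).toAddEquiv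
      refine (e.isWeaklyRegular_congr (as := rs.map (Ideal.Quotient.mk I))
        (List.forall₂_same.mpr fun r _ y => ?_)).mp hreg.2
      obtain ⟨s, rfl⟩ := Ideal.Quotient.mk_surjective r
      obtain ⟨t, rfl⟩ := Submodule.Quotient.mk_surjective _ y
      rfl
    haveI := ih (R ⧸ I) (rs.map (Ideal.Quotient.mk I)) (by simpa using hlen) hreg' hspan'
      (QuotSMulTop x M) hM.2
    have h0 : PdLE R M 0 := pdLE_of_modX (S := R ⧸ I) Ideal.Quotient.mk_surjective (mk_eq_zero_iff_dvd x)
      hreg.1 hxm 0 M (QuotSMulTop x M) (Submodule.mkQ _) (Submodule.mkQ_surjective _) (fun m => by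
        rw [Submodule.mkQ_apply, Submodule.Quotient.mk_eq_zero, Submodule.mem_smul_pointwise_iff_exists]
        exact ⟨fun ⟨y, _, hy⟩ => ⟨y, hy.symm⟩, fun ⟨y, hy⟩ => ⟨y, Submodule.mem_top, hy.symm⟩⟩)
      hM.1 ((pdLE_zero_iff _).mpr Module.Projective.of_free)
    rw [pdLE_zero_iff] at h0
    exact Module.free_of_flat_of_isLocalRing

/-- Integral extensions do not lower the dimension. -/
theorem ringKrullDim_le_of_isIntegral {R : Type u} {A : Type v} [CommRing R] [CommRing A] [Algebra R A]
    [Algebra.IsIntegral R A] (hinj : Function.Injective (algebraMap R A)) :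
    ringKrullDim R ≤ ringKrullDim A := by
  have key : ∀ (n : ℕ) (p : PrimeSpectrum R), (n : ℕ∞) ≤ Order.height p →
      ∃ Q : PrimeSpectrum A, Q.asIdeal.comap (algebraMap R A) = p.asIdeal ∧ (n : ℕ∞) ≤ Order.height Q := by
    intro n
    induction n with
    | zero =>
      intro p _
      obtain ⟨Q, -, hQ, hQp⟩ := Ideal.exists_ideal_over_prime_of_isIntegral p.asIdeal (⊥ : Ideal A)
        (by rw [← RingHom.ker, (RingHom.injective_iff_ker_eq_bot _).mp hinj]; exact bot_le)
      exact ⟨⟨Q, hQ⟩, hQp, zero_le⟩
    | succ n ih =>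
      intro p hp
      obtain ⟨q, hqp, hq⟩ : ∃ q < p, (n : ℕ∞) ≤ Order.height q := by
        obtain ⟨s, hlast, hlen⟩ := Order.exists_series_of_le_height p hp
        refine ⟨s.eraseLast.last, ?_, ?_⟩
        · rw [← hlast]
          exact s.eraseLast_last_rel_last (by omega)
        · have h := Order.length_le_height_last (p := s.eraseLast)
          rw [RelSeries.eraseLast_length, hlen] at h
          simpa using h
      obtain ⟨Q', hQ', hQn⟩ := ih q hq
      haveI := Q'.isPrime
      obtain ⟨Q, hle, hQ, hQp⟩ := Ideal.exists_ideal_over_prime_of_isIntegral p.asIdeal Q'.asIdeal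
        (hQ'.le.trans hqp.le)
      refine ⟨⟨Q, hQ⟩, hQp, ?_⟩
      have hlt : Q' < ⟨Q, hQ⟩ := lt_of_le_of_ne hle fun h => hqp.ne (PrimeSpectrum.ext (by
        rw [← hQ', ← hQp, h]))
      calc ((n + 1 : ℕ) : ℕ∞) ≤ Order.height Q' + 1 := by push_cast; gcongr
        _ ≤ _ := Order.height_add_one_le hlt
  rcases isEmpty_or_nonempty (PrimeSpectrum R) with h | h
  · rw [ringKrullDim, Order.krullDim_eq_bot]; exact bot_le
  rw [ringKrullDim, Order.krullDim_eq_iSup_height_of_nonempty]
  obtain ⟨p0⟩ := h
  haveI : Nonempty (PrimeSpectrum A) := ⟨(key 0 p0 zero_le).choose⟩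
  rw [ringKrullDim, Order.krullDim_eq_iSup_height_of_nonempty]
  refine WithBot.coe_le_coe.mpr (iSup_le fun p => ENat.forall_natCast_le_iff_le.mp fun n hn => ?_)
  obtain ⟨Q, -, hQn⟩ := key n p hn
  exact hQn.trans (le_iSup (fun Q => Order.height Q) Q)

/-- Miracle flatness, finite case: a regular local ring finite over a regular local ring is free. -/
theorem free_of_finite_of_isRegularLocalRing (R : Type u) [CommRing R] [IsRegularLocalRing R]
    (A : Type u) [CommRing A] [IsRegularLocalRing A] [Algebra R A] [Module.Finite R A]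
    (hinj : Function.Injective (algebraMap R A)) : Module.Free R A := by
  classical
  obtain ⟨d, hd⟩ := exists_dim R
  obtain ⟨dA, hdA⟩ := exists_dim A
  haveI : Algebra.IsIntegral R A := Algebra.IsIntegral.of_finite R A
  have hle : d ≤ dA := by
    have := ringKrullDim_le_of_isIntegral (R := R) (A := A) hinj
    rw [hd, hdA] at this
    exact_mod_cast this
  obtain ⟨rs, hlen, hreg, hspan⟩ := exists_regular_rsop d R hd
  obtain ⟨rA, hlenA, hregA, hspanA⟩ := exists_regular_rsop dA A hdA
  let a : Fin d → A := fun i => algebraMap R A (rs[(i : ℕ)]'(hlen ▸ i.2))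
  have hrange : Ideal.span (Set.range a) = (maximalIdeal R).map (algebraMap R A) := by
    rw [← hspan, Ideal.map_ofList, Ideal.ofList]
    congr 1
    ext v
    simp only [Set.mem_range, Set.mem_ofPred_eq, List.mem_map]
    constructor
    · rintro ⟨i, rfl⟩
      exact ⟨_, List.getElem_mem (hlen ▸ i.2), rfl⟩
    · rintro ⟨r, hr, rfl⟩
      obtain ⟨i, hi, rfl⟩ := List.getElem_of_mem hr
      exact ⟨⟨i, hlen ▸ hi⟩, rfl⟩
  have hsop : CMSop.IsSop a := by
    rw [CMSop.IsSop, hrange, Ideal.radical_eq_sInf]
    refine le_antisymm (sInf_le ⟨?_, (maximalIdeal.isMaximal A).isPrime⟩) (le_sInf ?_)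
    · rw [Ideal.map_le_iff_le_comap]
      haveI := Ideal.isMaximal_comap_of_isIntegral_of_isMaximal (R := R) (maximalIdeal A)
      exact (eq_maximalIdeal this).ge
    · rintro J ⟨hJ, hJp⟩
      haveI := hJp
      have hmax : (J.comap (algebraMap R A)).IsMaximal := by
        rw [eq_comm.mp ((maximalIdeal.isMaximal R).eq_of_le (Ideal.comap_ne_top _ hJp.ne_top)
          (Ideal.map_le_iff_le_comap.mp hJ))]
        exact maximalIdeal.isMaximal R
      exact (eq_maximalIdeal (Ideal.isMaximal_of_isIntegral_of_isMaximal_comap J hmax)).ge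
  have hR : CMSop.HasRegSeq (R := A) d A := CMSop.hasRegSeq_of_le hle (hlenA ▸
    CMSop.hasRegSeq_of_isWeaklyRegular rA A hregA (fun r hr => hspanA ▸ Ideal.subset_span hr))
  have hM : IsWeaklyRegular A (rs.map (algebraMap R A)) := by
    refine ⟨fun i hi => ?_⟩
    rw [List.length_map, hlen] at hi
    have h := CMSop.isSMulRegular_quotient_of_hasRegSeq hsop
      (Finset.univ.filter fun j : Fin d => (j : ℕ) < i) ⟨i, hi⟩ (by simp)
      (CMSop.hasRegSeq_quotient hsop hR _)
    have heq : Ideal.ofList ((rs.map (algebraMap R A)).take i) • (⊤ : Submodule A A) =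
        Ideal.span (a '' ((Finset.univ.filter fun j : Fin d => (j : ℕ) < i) : Set (Fin d))) := by
      rw [smul_eq_mul, Ideal.mul_top, Ideal.ofList]
      congr 1
      ext v
      simp only [Set.mem_ofPred_eq, List.mem_take_iff_getElem, Finset.coe_filter, Finset.mem_univ,
        true_and, Set.mem_image, List.getElem_map, List.length_map]
      constructor
      · rintro ⟨j, hj, rfl⟩
        exact ⟨⟨j, by omega⟩, by simp only; omega, rfl⟩
      · rintro ⟨j, hj, rfl⟩
        exact ⟨j, by have := j.2; omega, rfl⟩
    rw [List.getElem_map]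
    exact ((Submodule.quotEquivOfEq _ _ heq).isSMulRegular_congr _).mpr h
  rw [isWeaklyRegular_map_algebraMap_iff] at hM
  exact free_of_regular_rsop d R rs hlen hreg hspan A hM

end Groth.Agent.SerreReg
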