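import Groth.Agent.SerreReg.MiracleFinite
import Groth.Agent.LocalCrit.Criterion
import Mathlib.LinearAlgebra.TensorProduct.Quotient

/-!
Cohen–Macaulay consequences over regular local rings: miracle flatness, maximal CM modules.
-/

universe u

namespace Groth.Agent.SerreReg

open IsLocalRing RingTheory.Sequence
open scoped Pointwise TensorProduct

theorem exists_dim_nat (S : Type u) [CommRing S] [IsLocalRing S] [IsNoetherianRing S] :
    ∃ n : ℕ, ringKrullDim S = n := by
  refine ⟨(maximalIdeal S).height.toNat, ?_⟩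
  rw [← maximalIdeal_height_eq_ringKrullDim]
  exact_mod_cast (ENat.natCast_toNat (Ideal.height_ne_top (maximalIdeal.isMaximal S).ne_top)).symm

/-- Existence of systems of parameters. -/
theorem exists_sop (S : Type u) [CommRing S] [IsLocalRing S] [IsNoetherianRing S] (n : ℕ)
    (hn : ringKrullDim S = n) : ∃ a : Fin n → S, CMSop.IsSop a := by
  obtain ⟨s, hmin, hcard⟩ := Ideal.exists_finset_card_eq_height_of_isNoetherianRing (maximalIdeal S)
  have hsn : s.card = n := by
    have h1 : ((maximalIdeal S).height : WithBot ℕ∞) = (n : WithBot ℕ∞) :=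
      maximalIdeal_height_eq_ringKrullDim.trans hn
    rw [← hcard] at h1
    exact_mod_cast h1
  refine ⟨fun i => ((s.equivFinOfCardEq hsn).symm i : S), ?_⟩
  have hr : Set.range (fun i => ((s.equivFinOfCardEq hsn).symm i : S)) = (s : Set S) := by
    ext v
    exact ⟨fun ⟨i, hi⟩ => hi ▸ ((s.equivFinOfCardEq hsn).symm i).2,
      fun hv => ⟨s.equivFinOfCardEq hsn ⟨v, hv⟩, by simp⟩⟩
  rw [CMSop.IsSop, hr, Ideal.radical_eq_sInf]
  refine le_antisymm (sInf_le ⟨hmin.1.2, (maximalIdeal.isMaximal S).isPrime⟩) (le_sInf ?_)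
  rintro J ⟨hJ, hJp⟩
  exact hmin.2 ⟨hJp, hJ⟩ (le_maximalIdeal hJp.ne_top)

/-- An initial segment of a system of parameters in a Cohen–Macaulay ring is a regular sequence. -/
theorem isWeaklyRegular_take_of_isSop {S : Type u} [CommRing S] [IsLocalRing S] [IsNoetherianRing S]
    {n : ℕ} {a : Fin n → S} (hsop : CMSop.IsSop a) (hR : CMSop.HasRegSeq (R := S) n S) (m : ℕ) :
    IsWeaklyRegular S ((List.ofFn a).take m) := by
  classical
  refine ⟨fun i hi => ?_⟩
  rw [List.length_take, List.length_ofFn] at hi
  have h := CMSop.isSMulRegular_quotient_of_hasRegSeq hsop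
    (Finset.univ.filter fun j : Fin n => (j : ℕ) < i) ⟨i, by omega⟩ (by simp)
    (CMSop.hasRegSeq_quotient hsop hR _)
  have heq : Ideal.ofList (((List.ofFn a).take m).take i) • (⊤ : Submodule S S) =
      Ideal.span (a '' ((Finset.univ.filter fun j : Fin n => (j : ℕ) < i) : Set (Fin n))) := by
    rw [smul_eq_mul, Ideal.mul_top, Ideal.ofList, List.take_take]
    congr 1
    ext v
    simp only [Set.mem_ofPred_eq, List.mem_take_iff_getElem, Finset.coe_filter, Finset.mem_univ,
      true_and, Set.mem_image, List.getElem_ofFn, List.length_ofFn]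
    constructor
    · rintro ⟨j, hj, rfl⟩
      exact ⟨⟨j, by omega⟩, by simp only; omega, rfl⟩
    · rintro ⟨j, hj, rfl⟩
      exact ⟨j, by have := j.2; omega, rfl⟩
  rw [List.getElem_take, List.getElem_ofFn]
  exact ((Submodule.quotEquivOfEq _ _ heq).isSMulRegular_congr _).mpr h

/-- A local algebra on which a regular system of parameters is a regular sequence is flat. -/
theorem flat_of_regular_rsop : ∀ (d : ℕ) (R : Type u) [CommRing R] [IsRegularLocalRing R],
    ringKrullDim R = d → ∀ (rs : List R), rs.length = d → IsWeaklyRegular R rs →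
    Ideal.ofList rs = maximalIdeal R →
    ∀ (S : Type u) [CommRing S] [IsLocalRing S] [IsNoetherianRing S] [Algebra R S]
      [IsLocalHom (algebraMap R S)], IsWeaklyRegular S rs → Module.Flat R S := by
  intro d
  induction d with
  | zero =>
    intro R _ _ _ rs hlen _ hspan S _ _ _ _ _ _
    rw [List.eq_nil_of_length_eq_zero hlen, Ideal.ofList_nil] at hspan
    letI := (IsLocalRing.isField_iff_maximalIdeal_eq.mpr hspan.symm).toField
    haveI : Module.Free R S := Module.Free.of_divisionRing R S
    infer_instance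
  | succ d ih =>
    intro R _ _ hd rs hlen hreg hspan S _ _ _ _ _ hS
    obtain ⟨x, rs, rfl⟩ : ∃ x rs', rs = x :: rs' := by
      cases rs with
      | nil => simp at hlen
      | cons a l => exact ⟨a, l, rfl⟩
    rw [isWeaklyRegular_cons_iff'] at hreg
    rw [isWeaklyRegular_cons_iff] at hS
    have hxm : x ∈ maximalIdeal R := by
      rw [← hspan, Ideal.ofList_cons]
      exact Ideal.mem_sup_left (Ideal.mem_span_singleton_self x)
    let I : Ideal R := Ideal.span {x}
    haveI := isLocalRing_quot hxm
    have hspan' : Ideal.ofList (rs.map (Ideal.Quotient.mk I)) = maximalIdeal (R ⧸ I) := by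
      rw [← IsLocalRing.map_maximalIdeal_of_surjective (Ideal.Quotient.mk I) Ideal.Quotient.mk_surjective,
        ← hspan, Ideal.map_ofList, List.map_cons, Ideal.ofList_cons,
        show Ideal.Quotient.mk I x = 0 from Ideal.Quotient.eq_zero_iff_mem.mpr (Ideal.mem_span_singleton_self x)]
      simp
    have hd' : ringKrullDim (R ⧸ I) = d := by
      have h1 := ringKrullDim_quotient_span_singleton_succ_eq_ringKrullDim hreg.1 hxm
      rw [hd, Nat.cast_add, Nat.cast_one] at h1
      exact le_antisymm (ENat.WithBot.add_le_add_one_right_iff.mp h1.le)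
        (ENat.WithBot.add_le_add_one_right_iff.mp h1.ge)
    haveI : IsRegularLocalRing (R ⧸ I) := by
      refine IsRegularLocalRing.of_spanFinrank_maximalIdeal_le _ ?_
      rw [hd', Nat.cast_le, ← hspan', Ideal.ofList]
      classical
      refine (Submodule.spanFinrank_span_le_ncard_of_finite (List.finite_toSet _)).trans ?_
      rw [← List.coe_toFinset, Set.ncard_coe_finset]
      refine (List.toFinset_card_le _).trans ?_
      simp only [List.length_map]
      simp only [List.length_cons] at hlen
      omega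
    let J : Ideal S := I.map (algebraMap R S)
    have hJ : (J.restrictScalars R : Submodule R S) = x • (⊤ : Submodule R S) := by
      ext s
      rw [Submodule.restrictScalars_mem, Submodule.mem_smul_pointwise_iff_exists]
      simp only [J, I, Ideal.map_span, Set.image_singleton, Ideal.mem_span_singleton']
      constructor
      · rintro ⟨c, rfl⟩
        exact ⟨c, trivial, by rw [Algebra.smul_def, mul_comm]⟩
      · rintro ⟨c, -, rfl⟩
        exact ⟨c, by rw [Algebra.smul_def, mul_comm]⟩
    letI algS' : Algebra (R ⧸ I) (S ⧸ J) :=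
      (Ideal.quotientMap J (algebraMap R S) Ideal.le_comap_map).toAlgebra
    haveI : IsScalarTower R (R ⧸ I) (S ⧸ J) := IsScalarTower.of_algebraMap_eq fun r => rfl
    let eQ : QuotSMulTop x S ≃ₗ[R] S ⧸ J :=
      (Submodule.quotEquivOfEq (x • ⊤) (J.restrictScalars R) hJ.symm).trans
        (Submodule.Quotient.restrictScalarsEquiv R J)
    have hJle : J ≤ maximalIdeal S := Ideal.map_le_iff_le_comap.mpr
      ((Ideal.span_singleton_le_iff_mem _).mpr (by
        rw [IsLocalRing.maximalIdeal_comap]; exact hxm))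
    have hJtop : J ≠ ⊤ := ne_top_of_le_ne_top (maximalIdeal.isMaximal S).ne_top hJle
    haveI : Nontrivial (S ⧸ J) := Ideal.Quotient.nontrivial_iff.mpr hJtop
    haveI : IsLocalRing (S ⧸ J) := IsLocalRing.of_surjective' _ Ideal.Quotient.mk_surjective
    have hS' : IsWeaklyRegular (S ⧸ J) (rs.map (Ideal.Quotient.mk I)) :=
      (isWeaklyRegular_map_algebraMap_iff (R ⧸ I) (S ⧸ J) rs).mpr ((eQ.isWeaklyRegular_congr rs).mp hS.2)
    have hreg' : IsWeaklyRegular (R ⧸ I) (rs.map (Ideal.Quotient.mk I)) := by
      let e : QuotSMulTop x R ≃+ (R ⧸ I) :=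
        (Submodule.quotEquivOfEq (x • ⊤) (I : Submodule R R)
          (by rw [← Submodule.ideal_span_singleton_smul, smul_eq_mul, Ideal.mul_top])).toAddEquiv
      refine (e.isWeaklyRegular_congr (as := rs.map (Ideal.Quotient.mk I))
        (List.forall₂_same.mpr fun r _ y => ?_)).mp hreg.2
      obtain ⟨s, rfl⟩ := Ideal.Quotient.mk_surjective r
      obtain ⟨t, rfl⟩ := Submodule.Quotient.mk_surjective _ y
      rfl
    haveI : IsLocalHom (algebraMap (R ⧸ I) (S ⧸ J)) := by
      refine ⟨fun v hv => ?_⟩
      obtain ⟨r, rfl⟩ := Ideal.Quotient.mk_surjective v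
      haveI : IsLocalHom (Ideal.Quotient.mk J) := IsLocalHom.of_surjective _ Ideal.Quotient.mk_surjective
      exact ((hv.of_map (Ideal.Quotient.mk J) (algebraMap R S r)).of_map (algebraMap R S)).map _
    haveI hfl : Module.Flat (R ⧸ I) (S ⧸ J) :=
      ih (R ⧸ I) hd' (rs.map (Ideal.Quotient.mk I)) (by simpa using hlen) hreg' hspan' (S ⧸ J) hS'
    refine LocalCrit.flat_of_quotient_flat S I (fun h => (maximalIdeal.isMaximal R).ne_top
      (top_le_iff.mp (h.ge.trans ((Ideal.span_singleton_le_iff_mem _).mpr hxm)))) ?_ ?_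
    · exact mulMap_injective_of_regular x hS.1
    · let e := (TensorProduct.quotTensorEquivQuotSMul S I).trans
        ((Submodule.quotEquivOfEq _ _ (Submodule.ideal_span_singleton_smul x ⊤)).trans eQ)
      exact Module.Flat.of_linearEquiv
        (LinearEquiv.ofBijective (LinearMap.extendScalarsOfSurjective
          (Ideal.Quotient.mk_surjective (I := I)) e.toLinearMap) e.bijective)
where
  mulMap_injective_of_regular {R : Type u} [CommRing R] {M : Type u} [AddCommGroup M] [Module R M] (x : R)
      (hx : IsSMulRegular M x) : Function.Injective (LocalCrit.mulMap (Ideal.span {x}) M) := by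
    have hz : ∀ z, ∃ m : M, z = (⟨x, Ideal.mem_span_singleton_self x⟩ : Ideal.span {x}) ⊗ₜ[R] m := by
      intro z
      induction z using TensorProduct.induction_on with
      | zero => exact ⟨0, (TensorProduct.tmul_zero _ _).symm⟩
      | tmul a m =>
        obtain ⟨a, ha⟩ := a
        obtain ⟨c, rfl⟩ := Ideal.mem_span_singleton'.mp ha
        exact ⟨c • m, by rw [← TensorProduct.smul_tmul]; rfl⟩
      | add u v hu hv =>
        obtain ⟨m, rfl⟩ := hu
        obtain ⟨n, rfl⟩ := hv
        exact ⟨m + n, (TensorProduct.tmul_add _ _ _).symm⟩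
    rw [← LinearMap.ker_eq_bot, LinearMap.ker_eq_bot']
    intro z h
    obtain ⟨m, rfl⟩ := hz z
    rw [LocalCrit.mulMap_tmul] at h
    rw [hx.right_eq_zero_of_smul h, TensorProduct.tmul_zero]

theorem exists_list_of_hasRegSeq {R : Type u} [CommRing R] [IsLocalRing R] (k : ℕ) :
    ∀ {M : Type u} [AddCommGroup M] [Module R M], CMSop.HasRegSeq (R := R) k M →
      ∃ rs : List R, rs.length = k ∧ IsWeaklyRegular M rs ∧ ∀ r ∈ rs, r ∈ maximalIdeal R := by
  induction k with
  | zero => intro M _ _ _; exact ⟨[], rfl, IsWeaklyRegular.nil R M, by simp⟩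
  | succ k ih =>
    rintro M _ _ ⟨x, hx, hreg, h⟩
    obtain ⟨rs, hlen, hrs, hm⟩ := ih h
    exact ⟨x :: rs, by simp [hlen], IsWeaklyRegular.cons hreg hrs, by
      intro r hr
      rcases List.mem_cons.mp hr with rfl | hr
      · exact hx
      · exact hm r hr⟩

theorem hasRegSeq_of_depth_module {R : Type u} [CommRing R] [IsLocalRing R] {M : Type u} [AddCommGroup M]
    [Module R M] [Module.Finite R M] [Nontrivial M] {n : ℕ} (hd : (n : ℕ∞) ≤ _root_.LocCoh.depth R M) :
    CMSop.HasRegSeq (R := R) n M := by
  rcases Nat.eq_zero_or_pos n with rfl | hn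
  · trivial
  rw [_root_.LocCoh.depth, _root_.LocCoh.idealDepth, if_neg (fun h => not_subsingleton M
    ((Submodule.subsingleton_iff R).mp (subsingleton_iff_bot_eq_top.mp
      (Submodule.eq_bot_of_le_smul_of_le_jacobson_bot (maximalIdeal R) ⊤ Module.Finite.fg_top h.ge
        (IsLocalRing.maximalIdeal_le_jacobson _)).symm)))] at hd
  by_contra hcon
  have hle : ⨆ (rs : List R) (_ : IsWeaklyRegular M rs ∧ ∀ r ∈ rs, r ∈ maximalIdeal R),
      (rs.length : ℕ∞) ≤ ((n - 1 : ℕ) : ℕ∞) := by
    refine iSup₂_le fun rs hrs => Nat.cast_le.2 ?_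
    by_contra hlt
    exact hcon (CMSop.hasRegSeq_of_le (k := n) (l := rs.length) (by omega)
      (CMSop.hasRegSeq_of_isWeaklyRegular rs M hrs.1 hrs.2))
  have := hd.trans hle
  rw [Nat.cast_le] at this
  omega

/-- Maximal Cohen–Macaulay modules over regular local rings are free. -/
theorem free_of_hasRegSeq : ∀ (d : ℕ) (R : Type u) [CommRing R] [IsRegularLocalRing R],
    ringKrullDim R = d → ∀ (M : Type u) [AddCommGroup M] [Module R M] [Module.Finite R M],
      CMSop.HasRegSeq (R := R) d M → Module.Free R M := by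
  intro d
  induction d with
  | zero =>
    intro R _ _ hd M _ _ _ _
    have h := pdLE_finite 0 R hd M
    rw [pdLE_zero_iff] at h
    exact Module.free_of_flat_of_isLocalRing
  | succ d ih =>
    intro R _ _ hd M _ _ _ hM
    obtain ⟨y, hy, hyreg, hrest⟩ := hM
    have hne : maximalIdeal R ≠ ⊥ := by
      intro h0
      have h1 : ((maximalIdeal R).spanFinrank : WithBot ℕ∞) = ((d + 1 : ℕ) : WithBot ℕ∞) :=
        IsRegularLocalRing.spanFinrank_maximalIdeal.trans hd
      rw [h0, Submodule.spanFinrank_bot] at h1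
      have h2 : 0 = d + 1 := by exact_mod_cast h1
      omega
    obtain ⟨x, hx, hxreg, hx2⟩ : ∃ x ∈ maximalIdeal R, IsSMulRegular M x ∧ x ∉ maximalIdeal R ^ 2 := by
      by_contra hall
      push Not at hall
      have hsub : (maximalIdeal R : Set R) ⊆
          ⋃ i ∈ insert (maximalIdeal R ^ 2) (associatedPrimes R M), (id i : Ideal R) := by
        intro z hz
        rw [Set.biUnion_insert]
        by_cases hz2 : z ∈ maximalIdeal R ^ 2
        · exact Or.inl hz2
        · refine Or.inr ?_
          by_contra hcon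
          simp only [Set.mem_iUnion, SetLike.mem_coe, id, not_exists] at hcon
          exact hz2 (hall z hz (CMSop.isSMulRegular_of_forall fun p hp => hcon p hp))
      obtain ⟨P, hP, hle⟩ := (Ideal.subset_union_prime_finite ((associatedPrimes.finite R M).insert _)
        (f := id) (maximalIdeal R ^ 2) (maximalIdeal R ^ 2) (fun i hi h1 _ => by
          rcases hi with rfl | hi
          · exact absurd rfl h1
          · exact hi.isPrime)).mp hsub
      rcases hP with rfl | hP
      · obtain ⟨z, hz, hz2⟩ := exists_notMem_sq hne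
        exact hz2 (hle hz)
      · have : maximalIdeal R = P := (maximalIdeal.isMaximal R).eq_of_le hP.isPrime.ne_top hle
        exact CMSop.maximalIdeal_notMem_associatedPrimes hy hyreg (this ▸ hP)
    obtain ⟨hSreg, hreg⟩ := isRegularLocalRing_quot hx hx2
    have hd' : ringKrullDim (R ⧸ Ideal.span {x}) = d := by
      have h1 := ringKrullDim_quotient_span_singleton_succ_eq_ringKrullDim hreg hx
      rw [hd, Nat.cast_add, Nat.cast_one] at h1
      exact le_antisymm (ENat.WithBot.add_le_add_one_right_iff.mp h1.le)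
        (ENat.WithBot.add_le_add_one_right_iff.mp h1.ge)
    obtain ⟨rs, hlen, hrs, hm⟩ := exists_list_of_hasRegSeq d
      (CMSop.hasRegSeq_quot d inferInstance ⟨y, hy, hyreg, hrest⟩ x hx hxreg)
    haveI : Module.Finite (R ⧸ Ideal.span {x}) (QuotSMulTop x M) :=
      Module.Finite.of_restrictScalars_finite R _ _
    have h' : CMSop.HasRegSeq (R := R ⧸ Ideal.span {x}) d (QuotSMulTop x M) := by
      haveI : IsLocalHom (Ideal.Quotient.mk (Ideal.span {x})) :=
        IsLocalHom.of_surjective _ Ideal.Quotient.mk_surjective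
      have := CMSop.hasRegSeq_of_isWeaklyRegular (rs.map (algebraMap R (R ⧸ Ideal.span {x}))) (QuotSMulTop x M)
        ((isWeaklyRegular_map_algebraMap_iff _ _ rs).mpr hrs) (fun r hr => by
          obtain ⟨s, hs, rfl⟩ := List.mem_map.mp hr
          rw [IsLocalRing.mem_maximalIdeal]
          exact fun hu => (IsLocalRing.mem_maximalIdeal _).mp (hm s hs)
            (hu.of_map (Ideal.Quotient.mk (Ideal.span {x}))))
      rwa [List.length_map, hlen] at this
    haveI := ih (R ⧸ Ideal.span {x}) hd' (QuotSMulTop x M) h'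
    have h0 : PdLE R M 0 := pdLE_of_modX (S := R ⧸ Ideal.span {x}) Ideal.Quotient.mk_surjective
      (mk_eq_zero_iff_dvd x) hreg hx 0 M (QuotSMulTop x M) (Submodule.mkQ _) (Submodule.mkQ_surjective _)
      (fun m => by
        rw [Submodule.mkQ_apply, Submodule.Quotient.mk_eq_zero, Submodule.mem_smul_pointwise_iff_exists]
        exact ⟨fun ⟨z, _, hz⟩ => ⟨z, hz.symm⟩, fun ⟨z, hz⟩ => ⟨z, Submodule.mem_top, hz.symm⟩⟩)
      hxreg ((pdLE_zero_iff _).mpr Module.Projective.of_free)
    rw [pdLE_zero_iff] at h0
    exact Module.free_of_flat_of_isLocalRing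

end Groth.Agent.SerreReg
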