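import Mathlib.Algebra.Category.ModuleCat.ProjectiveDimension
import Mathlib.Algebra.Homology.ShortComplex.ModuleCat
import Mathlib.RingTheory.LocalRing.Module
import Mathlib.RingTheory.Regular.RegularSequence
import Mathlib.RingTheory.Noetherian.Basic
import Mathlib.LinearAlgebra.Finsupp.LinearCombination

/-!
Projective dimension along division by a regular element.
-/

universe u

namespace Groth.Agent.SerreReg

open CategoryTheory IsLocalRing

variable {R : Type u} [CommRing R]

/-- Projective dimension at most `n`, for an unbundled module. -/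
abbrev PdLE (R : Type u) [CommRing R] (M : Type u) [AddCommGroup M] [Module R M] (n : ℕ) : Prop :=
  HasProjectiveDimensionLE (ModuleCat.of R M) n

theorem pdLE_zero_iff (M : Type u) [AddCommGroup M] [Module R M] :
    PdLE R M 0 ↔ Module.Projective R M := by
  rw [PdLE, HasProjectiveDimensionLE, zero_add, ← projective_iff_hasProjectiveDimensionLT_one,
    ← IsProjective.iff_projective]

theorem pdLE_succ_iff {F M : Type u} [AddCommGroup F] [Module R F] [Module.Projective R F]
    [AddCommGroup M] [Module R M] (f : F →ₗ[R] M) (hf : Function.Surjective f) (n : ℕ) :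
    PdLE R M (n + 1) ↔ PdLE R (LinearMap.ker f) n := by
  have hS : (f.shortComplexKer).ShortExact := LinearMap.shortExact_shortComplexKer hf
  haveI : Projective (ModuleCat.of R F) := (IsProjective.iff_projective F).mp inferInstance
  exact hS.hasProjectiveDimensionLT_X₃_iff n inferInstance

theorem pdLE_of_equiv {M N : Type u} [AddCommGroup M] [Module R M] [AddCommGroup N] [Module R N]
    (e : M ≃ₗ[R] N) {n : ℕ} (h : PdLE R M n) : PdLE R N n :=
  hasProjectiveDimensionLT_of_iso e.toModuleIso (n + 1)

theorem pdLE_mono {M : Type u} [AddCommGroup M] [Module R M] {n m : ℕ} (h : n ≤ m)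
    (hM : PdLE R M n) : PdLE R M m :=
  hasProjectiveDimensionLT_of_ge _ (n + 1) (m + 1) (by omega)

theorem pdLE_of_retract {M N : Type u} [AddCommGroup M] [Module R M] [AddCommGroup N] [Module R N]
    (i : M →ₗ[R] N) (r : N →ₗ[R] M) (hri : r.comp i = LinearMap.id) {n : ℕ} (h : PdLE R N n) :
    PdLE R M n :=
  (Retract.mk (X := ModuleCat.of R M) (Y := ModuleCat.of R N) (ModuleCat.ofHom i) (ModuleCat.ofHom r)
    (ModuleCat.hom_ext hri)).hasProjectiveDimensionLT (n + 1)

section ModX

variable {x : R} {S : Type u} [CommRing S] [Algebra R S]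

/-- The kernel of a reduction of a surjection reduces the kernel. -/
theorem exists_ker_red (hS : Function.Surjective (algebraMap R S))
    {F F' M M' : Type u} [AddCommGroup F] [Module R F] [AddCommGroup F'] [Module R F'] [Module S F']
    [IsScalarTower R S F'] [AddCommGroup M] [Module R M] [AddCommGroup M'] [Module R M']
    [Module S M'] [IsScalarTower R S M'] (hreg : IsSMulRegular M x)
    (qF : F →ₗ[R] F') (hqF : Function.Surjective qF) (hqFker : ∀ w, qF w = 0 ↔ ∃ z, w = x • z)
    (q : M →ₗ[R] M') (hqker : ∀ m, q m = 0 ↔ ∃ y, m = x • y)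
    (f : F →ₗ[R] M) (hf : Function.Surjective f) (f' : F' →ₗ[S] M')
    (hcomm : ∀ w, f' (qF w) = q (f w)) :
    ∃ qK : LinearMap.ker f →ₗ[R] LinearMap.ker f', Function.Surjective qK ∧
      ∀ w, qK w = 0 ↔ ∃ z, w = x • z := by
  let g : LinearMap.ker f →ₗ[R] F' := qF.comp (LinearMap.ker f).subtype
  have hg : ∀ w, g w ∈ (LinearMap.ker f').restrictScalars R := fun w => by
    simp [g, hcomm, LinearMap.mem_ker.mp w.2]
  refine ⟨(g.codRestrict ((LinearMap.ker f').restrictScalars R) hg), fun v => ?_, fun w => ?_⟩
  · obtain ⟨w, hw⟩ := hqF v.1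
    have h0 : q (f w) = 0 := by rw [← hcomm, hw]; exact v.2
    obtain ⟨y, hy⟩ := (hqker _).mp h0
    obtain ⟨z, rfl⟩ := hf y
    refine ⟨⟨w - x • z, by simp [hy]⟩, Subtype.ext ?_⟩
    have hz : qF (x • z) = 0 := (hqFker _).mpr ⟨z, rfl⟩
    show qF (w - x • z) = v.1
    rw [map_sub, hz, sub_zero, hw]
  · constructor
    · intro h
      obtain ⟨z, hz⟩ := (hqFker w.1).mp (congrArg Subtype.val h)
      have hz0 : f z = 0 := hreg (by
        show x • f z = x • 0
        rw [smul_zero, ← map_smul, ← hz]; exact w.2)
      exact ⟨⟨z, hz0⟩, Subtype.ext hz⟩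
    · rintro ⟨z, rfl⟩
      exact Subtype.ext ((hqFker _).mpr ⟨z.1, rfl⟩)

/-- Projective dimension does not go up on dividing by an element regular on ring and module. -/
theorem pdLE_modX (hS : Function.Surjective (algebraMap R S))
    (hker : ∀ r, algebraMap R S r = 0 ↔ ∃ s, r = x * s) (hreg : IsSMulRegular R x) (n : ℕ) :
    ∀ (M : Type u) [AddCommGroup M] [Module R M] (M' : Type u) [AddCommGroup M'] [Module R M']
      [Module S M'] [IsScalarTower R S M'] (q : M →ₗ[R] M'), Function.Surjective q →
      (∀ m, q m = 0 ↔ ∃ y, m = x • y) → IsSMulRegular M x → PdLE R M n → PdLE S M' n := by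
  classical
  intro M _ _ M' _ _ _ _ q hq hqker hx hM
  induction n generalizing M M' with
  | zero =>
    rw [pdLE_zero_iff] at hM ⊢
    let F' := M →₀ S
    let p : F' →ₗ[S] M' := Finsupp.linearCombination S q
    obtain ⟨s, hs⟩ := Module.projective_lifting_property (Finsupp.linearCombination R (id : M → M))
      LinearMap.id (Finsupp.linearCombination_id_surjective R M)
    let t : M →ₗ[R] F' := (Finsupp.mapRange.linearMap (Algebra.linearMap R S)).comp s
    have htx : ∀ m, q m = 0 → t m = 0 := by
      intro m hm
      obtain ⟨y, rfl⟩ := (hqker m).mp hm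
      rw [map_smul, ← IsScalarTower.algebraMap_smul S x (t y), (hker x).mpr ⟨1, (mul_one x).symm⟩,
        zero_smul]
    let s' : M' →ₗ[R] F' := ((LinearMap.ker q).liftQ t fun m hm => htx m hm).comp
      (q.quotKerEquivOfSurjective hq).symm.toLinearMap
    have hs' : ∀ m, s' (q m) = t m := fun m => by
      have h : (q.quotKerEquivOfSurjective hq).symm (q m) = Submodule.Quotient.mk m := by
        rw [LinearEquiv.symm_apply_eq, LinearMap.quotKerEquivOfSurjective_apply_mk]
      simp only [s', LinearMap.comp_apply, LinearEquiv.coe_coe, h]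
      exact Submodule.liftQ_apply _ _ _
    refine Module.Projective.of_split (R := S) (M := F')
      (LinearMap.extendScalarsOfSurjective hS s') p (LinearMap.ext fun v => ?_)
    obtain ⟨m, rfl⟩ := hq v
    have hcomp : (p.restrictScalars R).comp (Finsupp.mapRange.linearMap (Algebra.linearMap R S)) =
        q.comp (Finsupp.linearCombination R (id : M → M)) := by
      refine Finsupp.lhom_ext fun a b => ?_
      have h1 : Finsupp.mapRange.linearMap (Algebra.linearMap R S) (Finsupp.single a b) =
          Finsupp.single a (algebraMap R S b) := by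
        ext i
        simp [Finsupp.single_apply, apply_ite (algebraMap R S)]
      simp only [p, LinearMap.comp_apply, LinearMap.restrictScalars_apply, h1]
      erw [Finsupp.linearCombination_single]
      simp [algebraMap_smul]
    simp only [LinearMap.comp_apply, LinearMap.id_apply]
    show p (s' (q m)) = q m
    rw [hs']
    exact (LinearMap.congr_fun hcomp (s m)).trans (congrArg q (LinearMap.congr_fun hs m))
  | succ n ih =>
    let f : (M →₀ R) →ₗ[R] M := Finsupp.linearCombination R id
    have hf : Function.Surjective f := Finsupp.linearCombination_id_surjective R M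
    let f' : (M →₀ S) →ₗ[S] M' := Finsupp.linearCombination S q
    let qF : (M →₀ R) →ₗ[R] (M →₀ S) := Finsupp.mapRange.linearMap (Algebra.linearMap R S)
    have hcomm : ∀ w, f' (qF w) = q (f w) := by
      intro w
      induction w using Finsupp.induction_linear with
      | zero => simp
      | add a b ha hb => simp only [map_add, ha, hb]
      | single a b => simp [f, f', qF]
    have hqF : Function.Surjective qF := Finsupp.mapRange_surjective _ (map_zero _) hS
    have hqFker : ∀ w, qF w = 0 ↔ ∃ z, w = x • z := by
      intro w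
      constructor
      · intro h
        have : ∀ i, ∃ s, w i = x * s := fun i => (hker _).mp (DFunLike.congr_fun h i)
        choose z hz using this
        refine ⟨Finsupp.onFinset w.support z fun i hi => Finsupp.mem_support_iff.mpr fun h0 => hi ?_,
          Finsupp.ext fun i => by simp [hz i]⟩
        refine hreg ?_
        show x * z i = x • 0
        rw [← hz i, h0, smul_zero]
      · rintro ⟨z, rfl⟩
        ext i
        exact (congrArg (algebraMap R S) (Finsupp.smul_apply x z i)).trans ((hker _).mpr ⟨z i, rfl⟩)
    have hf' : Function.Surjective f' := fun v => by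
      obtain ⟨m, rfl⟩ := hq v
      exact ⟨Finsupp.single m 1, by simp [f']⟩
    obtain ⟨qK, hqK, hqKker⟩ := exists_ker_red hS hx qF hqF hqFker q hqker f hf f' hcomm
    rw [pdLE_succ_iff f hf] at hM
    rw [pdLE_succ_iff f' hf']
    have hxF : IsSMulRegular (LinearMap.ker f) x := fun a b hab => Subtype.ext (Finsupp.ext fun i =>
      hreg (DFunLike.congr_fun (congrArg Subtype.val hab) i))
    exact ih (LinearMap.ker f) (LinearMap.ker f') qK hqK hqKker hxF hM

variable [IsLocalRing R] [IsNoetherianRing R] [IsLocalRing S]

/-- Over a local ring, a finite module inherits the projective dimension of its reduction. -/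
theorem pdLE_of_modX (hS : Function.Surjective (algebraMap R S))
    (hker : ∀ r, algebraMap R S r = 0 ↔ ∃ s, r = x * s) (hreg : IsSMulRegular R x)
    (hxm : x ∈ maximalIdeal R) (n : ℕ) :
    ∀ (M : Type u) [AddCommGroup M] [Module R M] [Module.Finite R M] (M' : Type u) [AddCommGroup M']
      [Module R M'] [Module S M'] [IsScalarTower R S M'] (q : M →ₗ[R] M'), Function.Surjective q →
      (∀ m, q m = 0 ↔ ∃ y, m = x • y) → IsSMulRegular M x → PdLE S M' n → PdLE R M n := by
  classical
  have hnak : ∀ (N : Type u) [AddCommGroup N] [Module R N] [Module.Finite R N] (P : Submodule R N),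
      (∀ m, ∃ p ∈ P, ∃ y, m = p + x • y) → P = ⊤ := by
    intro N _ _ _ P hP
    refine top_le_iff.mp (Submodule.le_of_le_smul_of_le_jacobson_bot (I := maximalIdeal R)
      Module.Finite.fg_top (IsLocalRing.maximalIdeal_le_jacobson _) ?_)
    intro m _
    obtain ⟨p, hp, y, rfl⟩ := hP m
    exact Submodule.add_mem_sup hp (Submodule.smul_mem_smul hxm Submodule.mem_top)
  intro M _ _ _ M' _ _ _ _ q hq hqker hx hM
  induction n generalizing M M' with
  | zero =>
    rw [pdLE_zero_iff] at hM ⊢
    haveI : Module.Finite R M' := Module.Finite.of_surjective q hq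
    haveI : Module.Finite S M' := Module.Finite.of_restrictScalars_finite R S M'
    haveI : Module.Free S M' := Module.free_of_flat_of_isLocalRing
    let bM' := Module.Free.chooseBasis S M'
    choose m hm using fun i => hq (bM' i)
    let f : (Module.Free.ChooseBasisIndex S M' → R) →ₗ[R] M := Fintype.linearCombination R m
    have hqf : ∀ w, q (f w) = ∑ i, algebraMap R S (w i) • bM' i := fun w => by
      simp [f, Fintype.linearCombination_apply, hm]
    have hf : Function.Surjective f := LinearMap.range_eq_top.mp (hnak M _ fun a => by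
      obtain ⟨w, hw⟩ : ∃ w, q (f w) = q a := by
        choose w hw using fun i => hS (bM'.repr (q a) i)
        exact ⟨w, by rw [hqf]; simp [hw, bM'.sum_repr]⟩
      obtain ⟨y, hy⟩ := (hqker (a - f w)).mp (by rw [map_sub, hw, sub_self])
      exact ⟨f w, ⟨w, rfl⟩, y, by rw [← hy, add_sub_cancel]⟩)
    have hinj : LinearMap.ker f = ⊥ := by
      have hsur : ∀ w : LinearMap.ker f, ∃ z : LinearMap.ker f, w = x • z := by
        intro w
        have h0 := hqf w.1
        rw [LinearMap.mem_ker.mp w.2, map_zero] at h0
        have := fun i => congrArg (fun v => bM'.repr v i) h0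
        simp only [map_zero, Finsupp.coe_zero, Pi.zero_apply, bM'.repr_sum_self] at this
        choose z hz using fun i => (hker _).mp (this i).symm
        have hwz : w.1 = x • z := funext fun i => hz i
        have hz0 : f z = 0 := hx (by
          show x • f z = x • 0
          rw [smul_zero, ← map_smul, ← hwz]; exact w.2)
        exact ⟨⟨z, hz0⟩, Subtype.ext hwz⟩
      have hbot : (⊥ : Submodule R (LinearMap.ker f)) = ⊤ := hnak _ ⊥ fun w => by
        obtain ⟨z, hz⟩ := hsur w
        exact ⟨0, zero_mem _, z, by rw [zero_add, ← hz]⟩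
      rw [eq_bot_iff]
      intro w hw
      have : (⟨w, hw⟩ : LinearMap.ker f) ∈ (⊥ : Submodule R (LinearMap.ker f)) := hbot ▸ Submodule.mem_top
      simpa using congrArg Subtype.val ((Submodule.mem_bot R).mp this)
    exact Module.Projective.of_equiv (LinearEquiv.ofBijective f ⟨LinearMap.ker_eq_bot.mp hinj, hf⟩)
  | succ n ih =>
    obtain ⟨k, f, hf⟩ := Module.Finite.exists_fin' R M
    let f' : (Fin k → S) →ₗ[S] M' := Fintype.linearCombination S fun i => q (f (Pi.single i 1))
    let qF : (Fin k → R) →ₗ[R] (Fin k → S) := (Algebra.linearMap R S).compLeft (Fin k)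
    have hcomm : ∀ w, f' (qF w) = q (f w) := by
      intro w
      conv_rhs => rw [pi_eq_sum_univ' w]
      simp [f', qF, Fintype.linearCombination_apply, map_sum]
    have hqF : Function.Surjective qF := fun v => by
      choose w hw using fun i => hS (v i)
      exact ⟨w, funext hw⟩
    have hqFker : ∀ w, qF w = 0 ↔ ∃ z, w = x • z := by
      intro w
      constructor
      · intro h
        choose z hz using fun i => (hker _).mp (congrFun h i)
        exact ⟨z, funext hz⟩
      · rintro ⟨z, rfl⟩
        exact funext fun i => (hker _).mpr ⟨z i, rfl⟩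
    have hf' : Function.Surjective f' := fun v => by
      obtain ⟨m, rfl⟩ := hq v
      obtain ⟨w, rfl⟩ := hf m
      exact ⟨qF w, hcomm w⟩
    obtain ⟨qK, hqK, hqKker⟩ := exists_ker_red hS hx qF hqF hqFker q hqker f hf f' hcomm
    rw [pdLE_succ_iff f hf]
    rw [pdLE_succ_iff f' hf'] at hM
    have hxF : IsSMulRegular (LinearMap.ker f) x := fun a b hab => Subtype.ext (funext fun i =>
      hreg (congrFun (congrArg Subtype.val hab) i))
    exact ih (LinearMap.ker f) (LinearMap.ker f') qK hqK hqKker hxF hM

end ModX

end Groth.Agent.SerreReg
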